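import Groth.Agent.TwistLib.TwistInv
import Groth.Agent.ProjLib.ProjSpace
import Mathlib

/-!
# Unit fractions generate twisting sheaves
-/

set_option autoImplicit false
set_option linter.unusedSectionVars false
set_option linter.style.haveILetI false

universe u

open AlgebraicGeometry CategoryTheory TopologicalSpace Opposite
open Groth.Agent.ProjLib Groth.Agent.Coherent Groth.Agent.PicLib Groth.Agent.AmpleLib Groth.Agent.TwistLib

namespace Groth.Agent.H8Constr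

variable {R A : Type u} [CommRing R] [CommRing A] [Algebra R A] {𝒜 : ℕ → Submodule R A} [GradedAlgebra 𝒜]

theorem notMem_mul {x : ProjectiveSpectrum 𝒜} {a b : A} (ha : a ∉ x.asHomogeneousIdeal)
    (hb : b ∉ x.asHomogeneousIdeal) : a * b ∉ x.asHomogeneousIdeal := fun h =>
  (x.isPrime.mem_or_mem h).elim ha hb

/-- A fraction with numerator and denominator invertible on `V` generates. -/
theorem smul_fracSec_bijective {n : ℤ} {V : Opens (ProjectiveSpectrum.top 𝒜)} {i j : ℕ} (P : 𝒜 i) (Q : 𝒜 j)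
    (hP : ∀ x : V, P.1 ∉ x.1.asHomogeneousIdeal) (hQ : ∀ x : V, Q.1 ∉ x.1.asHomogeneousIdeal)
    (h : (i : ℤ) = j + n) :
    Function.Bijective fun g : Twist.O (𝒜 := 𝒜) (op V) => oSmul g (fracSec n V P Q hQ h) := by
  have hval : ∀ (g : Twist.O (𝒜 := 𝒜) (op V)) (x : V),
      ((oSmul g (fracSec n V P Q hQ h)).1 x).1 = (g.1 x).val * Localization.mk P.1 ⟨Q.1, hQ x⟩ :=
    fun g x => oSmul_val g _ x
  have hunit : ∀ x : V, IsUnit (Localization.mk P.1 ⟨Q.1, hQ x⟩ : Twist.Loc 𝒜 x.1) := fun x => by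
    refine IsUnit.of_mul_eq_one (Localization.mk Q.1 ⟨P.1, hP x⟩) ?_
    rw [Localization.mk_mul]
    exact (Localization.mk_eq_mk_iff.2 (Localization.r_iff_exists.2 ⟨1, by
      simp only [Submonoid.coe_mul, Submonoid.coe_one]; ring⟩)).trans Localization.mk_one
  refine ⟨fun g g' hgg => Subtype.ext (funext fun x => HomogeneousLocalization.val_injective _ ?_),
    fun f => ?_⟩
  · exact (hunit x).mul_right_cancel
      ((hval g x).symm.trans ((congrArg (fun z => (Subtype.val z x).1) hgg).trans (hval g' x)))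
  · have key : ∀ x : V, ∃ (W : Opens (ProjectiveSpectrum.top 𝒜)) (_ : x.1 ∈ W) (hW : W ≤ V),
        ∃ (k : ℕ) (a b : 𝒜 k) (nin : ∀ y : W, b.1 ∉ y.1.asHomogeneousIdeal), ∀ y : W,
          Localization.mk a.1 ⟨b.1, nin y⟩ * Localization.mk P.1 ⟨Q.1, hQ ⟨y.1, hW y.2⟩⟩ =
            (f.1 ⟨y.1, hW y.2⟩).1 := by
      intro x
      obtain ⟨W, hxW, iW, i', j', a, s, nin, hdeg, hw⟩ := f.2 x
      rcases hdeg with hd | hd
      · refine ⟨W, hxW, leOfHom iW, j' + i, ⟨a.1 * Q.1, ?_⟩, ⟨s.1 * P.1, SetLike.mul_mem_graded s.2 P.2⟩,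
          fun y => notMem_mul (nin y) (hP ⟨y.1, leOfHom iW y.2⟩), fun y => ?_⟩
        · rw [show j' + i = i' + j by omega]
          exact SetLike.mul_mem_graded a.2 Q.2
        · refine Eq.trans ?_ (hw y).symm
          rw [Localization.mk_mul]
          exact Localization.mk_eq_mk_iff.2 (Localization.r_iff_exists.2 ⟨1, by
            simp only [Submonoid.coe_mul, Submonoid.coe_one]; ring⟩)
      · refine ⟨W, hxW, leOfHom iW, 0, 0, ⟨1, SetLike.GradedOne.one_mem⟩,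
          fun y hy => y.1.isPrime.ne_top ((Ideal.eq_top_iff_one _).mpr hy), fun y => ?_⟩
        refine Eq.trans ?_ (hw y).symm
        rw [hd, Localization.mk_zero, ZeroMemClass.coe_zero, Localization.mk_zero, zero_mul]
    choose W hxW hW k a b nin hg using key
    let g₀ : ∀ x : V, Twist.A0 𝒜 x.1 := fun x =>
      HomogeneousLocalization.mk ⟨k x, a x, b x, nin x ⟨x.1, hxW x⟩⟩
    have hg₀ : ∀ x : V, (g₀ x).val * Localization.mk P.1 ⟨Q.1, hQ x⟩ = (f.1 x).1 := fun x => by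
      rw [HomogeneousLocalization.val_mk]
      exact hg x ⟨x.1, hxW x⟩
    refine ⟨⟨g₀, fun x => ⟨W x, hxW x, homOfLE (hW x), k x, a x, b x, fun y => nin x y,
      fun y => HomogeneousLocalization.val_injective _ ?_⟩⟩, sectN_ext fun x => ?_⟩
    · rw [HomogeneousLocalization.val_mk]
      exact (hunit ⟨y.1, hW x y.2⟩).mul_right_cancel ((hg₀ ⟨y.1, hW x y.2⟩).trans (hg x y).symm)
    · exact (hval _ x).trans (hg₀ x)

/-- A fraction with numerator and denominator invertible on `U` generates the twist there. -/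
theorem isGen_fracSec {n : ℤ} (U : (Proj 𝒜).Opens) {i j : ℕ} (P : 𝒜 i) (Q : 𝒜 j)
    (hP : U ≤ Proj.basicOpen 𝒜 P.1) (hQ : U ≤ Proj.basicOpen 𝒜 Q.1) (h : (i : ℤ) = j + n) :
    IsGen (Twist.twist 𝒜 n) U (fracSec n U P Q (fun x => hQ x.2) h) :=
  fun V hV => smul_fracSec_bijective (V := V) P Q (fun x => hP (hV x.2)) (fun x => hQ (hV x.2)) h

/-- A generator on an open trivialises the restriction to it. -/
theorem nonempty_restrict_iso_of_isGen {X : Scheme.{u}} {L : X.Modules} {U : X.Opens} {s : Γ(L, U)}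
    (hs : IsGen L U s) : Nonempty (L.restrict U.ι ≅ Coh.structureModule U.toScheme) := by
  refine nonempty_iso_of_isGen_top
    (s := (L.restrictAppIso U.ι ⊤).inv (resM L (Scheme.Opens.ι_image_top U).le s)) fun W hW => ?_
  have hle : U.ι ''ᵁ W ≤ U := (U.ι.image_mono hW).trans (Scheme.Opens.ι_image_top U).le
  have hb := hs (U.ι ''ᵁ W) hle
  have hb3 := ConcreteCategory.bijective_of_isIso (U.ι.appIso W).inv
  have hb2 := ConcreteCategory.bijective_of_isIso (L.restrictAppIso U.ι W).hom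
  refine (Function.Bijective.of_comp_iff' hb2 _).1 ?_
  convert hb.comp hb3 using 1
  funext r
  refine (Scheme.Modules.smul_restrictAppIso_hom_apply U.ι L W r _).trans ?_
  refine congrArg (fun z => (U.ι.appIso W).inv r • z) ?_
  exact resM_resM L (Scheme.Opens.ι_image_top U).le (U.ι.image_mono hW) s

/-- `O(n d)` is trivial on `D₊(f)`. -/
theorem twist_trivial_basicOpen {d : ℕ} {f : A} (hf : f ∈ 𝒜 d) (n : ℤ) :
    Nonempty ((Twist.twist 𝒜 (n * d)).restrict (Proj.basicOpen 𝒜 f).ι ≅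
      Coh.structureModule ↑(Proj.basicOpen 𝒜 f)) :=
  nonempty_restrict_iso_of_isGen (isGen_tau hf n)

theorem pow_basicOpen (f : A) (k : ℕ) : Proj.basicOpen 𝒜 f ≤ Proj.basicOpen 𝒜 (f ^ k) := fun x hx =>
  fun h => hx ((show ProjectiveSpectrum 𝒜 from x).isPrime.mem_of_pow_mem k h)

/-- `O(n d)` is trivial on `D₊(a b)` when `deg a = deg b + d`. -/
theorem twist_trivial_basicOpen_mul {d i j : ℕ} {a b : A} (ha : a ∈ 𝒜 i) (hb : b ∈ 𝒜 j) (hij : i = j + d) (n : ℤ) :
    Nonempty ((Twist.twist 𝒜 (n * d)).restrict (Proj.basicOpen 𝒜 (a * b)).ι ≅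
      Coh.structureModule ↑(Proj.basicOpen 𝒜 (a * b))) := by
  have hle : ∀ k l : ℕ, Proj.basicOpen 𝒜 (a * b) ≤ Proj.basicOpen 𝒜 (a ^ k * b ^ l) := fun k l => by
    rw [Proj.basicOpen_mul, Proj.basicOpen_mul]
    exact inf_le_inf (pow_basicOpen a k) (pow_basicOpen b l)
  refine nonempty_restrict_iso_of_isGen (isGen_fracSec _
    ⟨a ^ n.toNat * b ^ (-n).toNat, SetLike.mul_mem_graded (pow_mem_deg ha _) (pow_mem_deg hb _)⟩
    ⟨a ^ (-n).toNat * b ^ n.toNat, SetLike.mul_mem_graded (pow_mem_deg ha _) (pow_mem_deg hb _)⟩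
    (hle _ _) (hle _ _) ?_)
  subst hij
  push_cast
  linear_combination (d : ℤ) * (Int.toNat_sub_toNat_neg n)

theorem exists_pos_deg_notMem (x : ProjectiveSpectrum 𝒜) : ∃ (e : ℕ) (f : A), 0 < e ∧ f ∈ 𝒜 e ∧
    f ∉ x.asHomogeneousIdeal := by
  by_contra! hc
  exact x.not_irrelevant_le ((HomogeneousIdeal.toIdeal_irrelevant_le 𝒜).mpr fun e he f hf => hc e f he hf)

/-- A quasi-compact open is covered by finitely many positive degree charts. -/
theorem exists_finset_cover {Y : (Proj 𝒜).Opens} (hY : IsCompact (Y : Set (Proj 𝒜))) :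
    ∃ s : Finset A, (∀ f ∈ s, ∃ d : ℕ, 0 < d ∧ f ∈ 𝒜 d) ∧ ∀ y ∈ Y, ∃ f ∈ s, y ∈ Proj.basicOpen 𝒜 f := by
  classical
  choose e f he hf hfx using fun x : Proj 𝒜 => exists_pos_deg_notMem (𝒜 := 𝒜) x
  obtain ⟨t, ht⟩ := hY.elim_finite_subcover (fun x => (Proj.basicOpen 𝒜 (f x) : Set (Proj 𝒜)))
    (fun x => (Proj.basicOpen 𝒜 (f x)).2) fun x _ => Set.mem_iUnion.mpr ⟨x, hfx x⟩
  refine ⟨t.image f, fun g hg => ?_, fun y hy => ?_⟩
  · obtain ⟨x, _, rfl⟩ := Finset.mem_image.mp hg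
    exact ⟨e x, he x, hf x⟩
  · obtain ⟨x, hx, hyx⟩ := Set.mem_iUnion₂.mp (ht hy)
    exact ⟨f x, Finset.mem_image_of_mem f hx, hyx⟩

/-- A quasi-compact open lies in some `W_d`, where all `O(n d)` are invertible. -/
theorem exists_deg_isInvertible {Y : (Proj 𝒜).Opens} (hY : IsCompact (Y : Set (Proj 𝒜))) :
    ∃ d : ℕ, 0 < d ∧
      (∀ y : Proj 𝒜, y ∈ Y → ∃ (i j : ℕ) (a b : A), a ∈ 𝒜 i ∧ b ∈ 𝒜 j ∧ i = j + d ∧ y ∈ Proj.basicOpen 𝒜 (a * b)) ∧
      ∀ n : ℤ, PicF.IsInvertible ((Twist.twist 𝒜 (n * d)).restrict Y.ι) := by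
  classical
  obtain ⟨s, hs, hcov⟩ := exists_finset_cover hY
  choose e he hf using hs
  refine ⟨∏ g ∈ s.attach, e g.1 g.2, Finset.prod_pos fun g _ => he g.1 g.2, ?_, fun n => ?_⟩
  all_goals
    have key : ∀ y ∈ Y, ∃ a ∈ 𝒜 (∏ g ∈ s.attach, e g.1 g.2), y ∈ Proj.basicOpen 𝒜 a := fun y hy => by
      obtain ⟨g, hg, hyg⟩ := hcov y hy
      obtain ⟨c, hc⟩ := Finset.dvd_prod_of_mem (fun g : {g // g ∈ s} => e g.1 g.2) (Finset.mem_attach s ⟨g, hg⟩)
      refine ⟨g ^ c, ?_, pow_basicOpen g c hyg⟩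
      rw [hc, mul_comm]
      exact pow_mem_deg (hf g hg) c
  · intro y hy
    obtain ⟨a, ha, hya⟩ := key y hy
    exact ⟨_, 0, a, 1, ha, SetLike.GradedOne.one_mem, (Nat.add_zero _).symm ▸ (by simp), by rwa [mul_one]⟩
  · refine isInvertible_twist_restrict _ n Y fun y hy => ?_
    obtain ⟨a, ha, hya⟩ := key y hy
    exact Opens.mem_iSup.2 ⟨⟨a, ha⟩, hya⟩

/-- Quasi-compactness of `Proj`. -/
theorem compactSpace_proj_iff :
    CompactSpace ↥(Proj 𝒜) ↔ ∃ s : Finset A, (∀ f ∈ s, ∃ d : ℕ, 0 < d ∧ f ∈ 𝒜 d) ∧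
      (HomogeneousIdeal.irrelevant 𝒜).toIdeal ≤ (Ideal.span (s : Set A)).radical := by
  constructor
  · intro h
    obtain ⟨s, hs, hcov⟩ := exists_finset_cover (𝒜 := 𝒜) (Y := ⊤) (by
      rw [Opens.coe_top]; exact isCompact_univ)
    refine ⟨s, hs, ?_⟩
    rw [Ideal.radical_eq_sInf]
    refine le_sInf fun P hP => ?_
    obtain ⟨hsP, hPp⟩ := hP
    by_contra hle
    have hcore : ¬ HomogeneousIdeal.irrelevant 𝒜 ≤ P.homogeneousCore 𝒜 := fun h' =>
      hle (le_trans (show (HomogeneousIdeal.irrelevant 𝒜).toIdeal ≤ (P.homogeneousCore 𝒜).toIdeal from h')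
        (Ideal.toIdeal_homogeneousCore_le 𝒜 P))
    let x : Proj 𝒜 := ⟨P.homogeneousCore 𝒜, hPp.homogeneousCore, hcore⟩
    obtain ⟨f, hf, hfx⟩ := hcov x trivial
    obtain ⟨d, -, hfd⟩ := hs f hf
    exact hfx (Ideal.mem_homogeneousCore_of_homogeneous_of_mem ⟨d, hfd⟩ (hsP (Ideal.subset_span hf)))
  · rintro ⟨s, hs, hrad⟩
    refine ⟨?_⟩
    have hu : (Set.univ : Set (Proj 𝒜)) = ⋃ f ∈ s, (Proj.basicOpen 𝒜 f : Set (Proj 𝒜)) := by
      refine (Set.eq_univ_of_forall fun x => ?_).symm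
      by_contra hx
      simp only [Set.mem_iUnion, not_exists] at hx
      exact x.not_irrelevant_le (hrad.trans (x.isPrime.radical_le_iff.mpr (Ideal.span_le.mpr fun f hf => by
        by_contra hfx
        exact hx f hf hfx)))
    rw [hu]
    refine s.isCompact_biUnion fun f hf => ?_
    obtain ⟨d, hd, hfd⟩ := hs f hf
    exact (Proj.isAffineOpen_basicOpen 𝒜 f hfd hd).isCompact

/-- The non-vanishing locus of a form on `W_d`. -/
theorem mem_basicOpen_iff_span {d i j : ℕ} {a b : A} (ha : a ∈ 𝒜 i) (hb : b ∈ 𝒜 j) (hij : i = j + d)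
    (p : ProjectiveSpectrum 𝒜) (hp : p ∈ ProjectiveSpectrum.basicOpen 𝒜 (a * b)) {n : ℕ} (f : 𝒜 (n * d)) :
    p ∈ ProjectiveSpectrum.basicOpen 𝒜 (f : A) ↔
      Submodule.span (Twist.A0 𝒜 p) {(Twist.globalOf 𝒜 f).1 ⟨p, trivial⟩} = ⊤ := by
  have hval : ((Twist.globalOf 𝒜 f).1 ⟨p, trivial⟩).1 = Localization.mk f.1 1 := rfl
  have hap : a ∉ p.asHomogeneousIdeal := fun h => hp (p.asHomogeneousIdeal.toIdeal.mul_mem_right b h)
  have hbp : b ∉ p.asHomogeneousIdeal := fun h => hp (p.asHomogeneousIdeal.toIdeal.mul_mem_left a h)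
  rw [Submodule.eq_top_iff']
  simp only [Submodule.mem_span_singleton]
  constructor
  · intro hf q
    obtain ⟨q, hq⟩ := q
    suffices h : ∃ c : Twist.A0 𝒜 p, c.val * Localization.mk f.1 1 = q by
      obtain ⟨c, hc⟩ := h
      exact ⟨c, Subtype.ext ((Twist.coe_smul_val _ p c _).trans (by rw [hval]; exact hc))⟩
    induction hq using Submodule.span_induction with
    | mem q hq =>
      obtain ⟨i', j', r, s, hs, hdeg, rfl⟩ := hq
      refine ⟨HomogeneousLocalization.mk ⟨j' + n * d, ⟨r.1, ?_⟩, ⟨s.1 * f.1, SetLike.mul_mem_graded s.2 f.2⟩,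
        notMem_mul hs hf⟩, ?_⟩
      · rw [show j' + n * d = i' by omega]
        exact r.2
      · rw [HomogeneousLocalization.val_mk, Localization.mk_mul]
        exact Localization.mk_eq_mk_iff.2 (Localization.r_iff_exists.2 ⟨1, by
          simp only [Submonoid.coe_mul, Submonoid.coe_one]; ring⟩)
    | zero => exact ⟨0, by rw [HomogeneousLocalization.val_zero, zero_mul]⟩
    | add x y _ _ hx hy =>
      obtain ⟨c, rfl⟩ := hx
      obtain ⟨c', rfl⟩ := hy
      exact ⟨c + c', by rw [HomogeneousLocalization.val_add, add_mul]⟩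
    | smul r x _ hx =>
      obtain ⟨c, rfl⟩ := hx
      exact ⟨r * c, by
        rw [HomogeneousLocalization.val_mul, Algebra.smul_def, HomogeneousLocalization.algebraMap_apply, mul_assoc]⟩
  · intro h hf
    let u : Twist.twistAt 𝒜 ((n * d : ℕ) : ℤ) p :=
      ⟨Localization.mk (a ^ n) ⟨b ^ n, Submonoid.pow_mem p.asHomogeneousIdeal.toIdeal.primeCompl hbp n⟩,
        Submodule.subset_span ⟨n * i, n * j, ⟨a ^ n, pow_mem_deg ha n⟩, ⟨b ^ n, pow_mem_deg hb n⟩,
          Submonoid.pow_mem p.asHomogeneousIdeal.toIdeal.primeCompl hbp n, by subst hij; push_cast; ring, rfl⟩⟩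
    obtain ⟨c, hc⟩ := h u
    have e : c.val * Localization.mk f.1 1 =
        Localization.mk (a ^ n) ⟨b ^ n, Submonoid.pow_mem p.asHomogeneousIdeal.toIdeal.primeCompl hbp n⟩ := by
      have := congrArg Subtype.val hc
      rwa [Twist.coe_smul_val, hval] at this
    have hu : IsUnit (Localization.mk (a ^ n) ⟨b ^ n, Submonoid.pow_mem p.asHomogeneousIdeal.toIdeal.primeCompl hbp n⟩ :
        Twist.Loc 𝒜 p) := by
      rw [Localization.mk_eq_mk']
      exact (IsLocalization.AtPrime.isUnit_mk'_iff _ p.asHomogeneousIdeal.toIdeal _ _).mpr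
        (Submonoid.pow_mem p.asHomogeneousIdeal.toIdeal.primeCompl hap n)
    rw [← e, Localization.mk_one_eq_algebraMap] at hu
    exact (IsLocalization.AtPrime.isUnit_to_map_iff _ p.asHomogeneousIdeal.toIdeal f.1).mp
      (isUnit_of_mul_isUnit_right hu) hf

end Groth.Agent.H8Constr
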