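import Groth.Agent.ProjLib.ProjSpace
import Mathlib

/-!
# The standard charts of projective space are affine spaces
-/

set_option autoImplicit false
set_option linter.unusedSectionVars false

universe u

open AlgebraicGeometry MvPolynomial HomogeneousLocalization Groth.Agent.ProjLib

namespace Groth.Agent.H8Constr

theorem aeval_homogeneous {σ R B : Type*} [CommRing R] [CommRing B] [Algebra (MvPolynomial σ R) B] [Algebra R B]
    [IsScalarTower R (MvPolynomial σ R) B] (u : B) {k : ℕ} {p : MvPolynomial σ R} (hp : p.IsHomogeneous k) :
    aeval (fun j => algebraMap (MvPolynomial σ R) B (X j) * u) p = u ^ k * algebraMap (MvPolynomial σ R) B p := by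
  classical
  conv_lhs => rw [p.as_sum]
  conv_rhs => rw [p.as_sum]
  rw [map_sum, map_sum, Finset.mul_sum]
  refine Finset.sum_congr rfl fun m hm => ?_
  have hw : ∑ j ∈ m.support, m j = k := by
    have := hp (mem_support_iff.mp hm)
    simpa [Finsupp.weight_apply, Finsupp.sum] using this
  rw [aeval_monomial, monomial_eq, map_mul, Finsupp.prod, Finsupp.prod, map_prod, ← hw, ← Finset.prod_pow_eq_pow_sum,
    IsScalarTower.algebraMap_apply R (MvPolynomial σ R) B, ← MvPolynomial.algebraMap_eq, mul_left_comm,
    ← Finset.prod_mul_distrib]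
  congr 1
  exact Finset.prod_congr rfl fun j _ => by rw [mul_pow, map_pow, mul_comm]

variable (n : ℕ) (R : Type u) [CommRing R] (i : Fin (n + 1))

/-- The chart map from the polynomial ring in the other variables. -/
noncomputable def chartHom : MvPolynomial {j : Fin (n + 1) // j ≠ i} R →+* Away (CohB1.polyGrading n R) (X i) :=
  eval₂Hom (toAway n R (X i))
    (fun j => HomogeneousLocalization.mk ⟨1, ⟨X j.1, isHomogeneous_X R j.1⟩,
      ⟨X i, isHomogeneous_X R i⟩, ⟨1, pow_one _⟩⟩)

/-- The dehomogenisation sending `X i` to one. -/
noncomputable def dehomX : MvPolynomial (Fin (n + 1)) R →ₐ[R] MvPolynomial {j : Fin (n + 1) // j ≠ i} R :=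
  aeval (fun j => if h : j = i then 1 else X ⟨j, h⟩)

theorem val_chartHom_dehomX (p : MvPolynomial (Fin (n + 1)) R) :
    (chartHom n R i (dehomX n R i p)).val =
      aeval (fun j => algebraMap (MvPolynomial (Fin (n + 1)) R) (Localization.Away (X i : MvPolynomial (Fin (n + 1)) R)) (X j) *
        IsLocalization.Away.invSelf (X i : MvPolynomial (Fin (n + 1)) R)) p := by
  induction p using MvPolynomial.induction_on with
  | C r =>
    rw [dehomX, aeval_C, aeval_C, MvPolynomial.algebraMap_eq, chartHom, eval₂Hom_C, val_toAway,
      IsScalarTower.algebraMap_apply R (MvPolynomial (Fin (n + 1)) R) (Localization.Away _)]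
    rfl
  | add p q hp hq => rw [map_add, map_add, HomogeneousLocalization.val_add, hp, hq, map_add]
  | mul_X p j hp =>
    rw [map_mul, map_mul, HomogeneousLocalization.val_mul, hp, map_mul, aeval_X]
    congr 1
    rw [dehomX, aeval_X]
    have hinv : algebraMap (MvPolynomial (Fin (n + 1)) R) (Localization.Away (X i : MvPolynomial (Fin (n + 1)) R)) (X i) *
        IsLocalization.Away.invSelf (X i : MvPolynomial (Fin (n + 1)) R) = 1 := IsLocalization.Away.mul_invSelf _
    by_cases h : j = i
    · subst h
      rw [dif_pos rfl, map_one, HomogeneousLocalization.val_one, hinv]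
    · rw [dif_neg h, chartHom, eval₂Hom_X', HomogeneousLocalization.val_mk, Localization.mk_eq_mk',
        IsLocalization.mk'_eq_iff_eq_mul, mul_assoc, mul_comm (IsLocalization.Away.invSelf _), hinv, mul_one]

theorem chartHom_bijective : Function.Bijective (chartHom n R i) := by
  classical
  constructor
  · let Λ : Localization.Away (X i : MvPolynomial (Fin (n + 1)) R) →+* MvPolynomial {j : Fin (n + 1) // j ≠ i} R :=
      IsLocalization.Away.lift (X i : MvPolynomial (Fin (n + 1)) R) (g := (dehomX n R i).toRingHom)
        (by simp [dehomX])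
    let Λ' : Away (CohB1.polyGrading n R) (X i) →+* MvPolynomial {j : Fin (n + 1) // j ≠ i} R :=
      Λ.comp (algebraMap (Away (CohB1.polyGrading n R) (X i)) (Localization.Away (X i : MvPolynomial (Fin (n + 1)) R)))
    have h : Λ'.comp (chartHom n R i) = RingHom.id _ := by
      refine MvPolynomial.ringHom_ext (fun r => ?_) (fun j => ?_)
      · simp only [Λ', RingHom.comp_apply, RingHom.id_apply, HomogeneousLocalization.algebraMap_apply, chartHom,
          eval₂Hom_C, val_toAway, Λ, IsLocalization.Away.lift_eq]
        simp [dehomX]
      · have e : X j = dehomX n R i (X j.1) := by rw [dehomX, aeval_X, dif_neg j.2]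
        conv_lhs => rw [e]
        simp only [Λ', RingHom.comp_apply, RingHom.id_apply, HomogeneousLocalization.algebraMap_apply]
        rw [val_chartHom_dehomX, aeval_X, map_mul, IsLocalization.Away.lift_eq]
        have hone : Λ (IsLocalization.Away.invSelf (X i : MvPolynomial (Fin (n + 1)) R)) = 1 := by
          have := congrArg Λ (IsLocalization.Away.mul_invSelf (S := Localization.Away (X i : MvPolynomial (Fin (n + 1)) R)) (X i : MvPolynomial (Fin (n + 1)) R))
          rw [map_mul, map_one, IsLocalization.Away.lift_eq] at this
          simpa [dehomX] using this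
        rw [hone, mul_one]
        simp [dehomX, j.2]
    exact Function.LeftInverse.injective (g := Λ') fun p => RingHom.congr_fun h p
  · intro x
    obtain ⟨k, p, hp, rfl⟩ := Away.mk_surjective (CohB1.polyGrading n R) (X_mem_polyGrading n R i) x
    rw [smul_eq_mul, mul_one] at hp
    refine ⟨dehomX n R i p, HomogeneousLocalization.val_injective _ ?_⟩
    rw [val_chartHom_dehomX, aeval_homogeneous _ ((mem_homogeneousSubmodule k p).mp hp), Away.val_mk,
      Localization.mk_eq_mk', IsLocalization.eq_mk'_iff_mul_eq, map_pow, mul_comm, ← mul_assoc, ← mul_pow,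
      IsLocalization.Away.mul_invSelf, one_pow, one_mul]

end Groth.Agent.H8Constr
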