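import Groth.Agent.ProjLib.ClosedSubscheme
import Groth.Agent.H8Constr.TwistFrac
import Mathlib

/-!
# A closed subscheme of `Proj` is cut out by the forms vanishing on it
-/

set_option autoImplicit false
set_option linter.unusedSectionVars false
set_option backward.isDefEq.respectTransparency.types false

universe u

open AlgebraicGeometry CategoryTheory TopologicalSpace Opposite HomogeneousLocalization
open Groth.Agent.ProjLib Groth.Agent.Coherent Groth.Agent.PicLib Groth.Agent.AmpleLib Groth.Agent.TwistLib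

namespace Groth.Agent.H8Constr

variable {R A : Type u} [CommRing R] [CommRing A] [Algebra R A] (𝒜 : ℕ → Submodule R A) [GradedAlgebra 𝒜]
variable {s : Finset A} (hs1 : ∀ f ∈ s, f ∈ 𝒜 1)

/-- The section of `O(n)` given by a form. -/
noncomputable abbrev formSec {d : ℕ} (F : 𝒜 d) : Γ(Twist.twist 𝒜 (d : ℤ), ⊤) := Twist.globalOf 𝒜 F

include hs1 in
/-- A form pulls back to zero iff its fractions lie in the chart ideals. -/
theorem pullSec_eq_zero_iff (hs : (HomogeneousIdeal.irrelevant 𝒜).toIdeal ≤ Ideal.span (s : Set A))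
    {Z : Scheme.{u}} (i : Z ⟶ Proj 𝒜) [QuasiCompact i] {d : ℕ} (F : 𝒜 d) :
    PicLib.pullSec i (formSec 𝒜 F) = 0 ↔ ∀ (f : A) (hf : f ∈ s),
      Away.mk 𝒜 (hs1 f hf) d F.1 (by simp) ∈ chartIdeal 𝒜 i.ker one_pos (hs1 f hf) := by
  classical
  have hcovA : ∀ x : ProjectiveSpectrum 𝒜, ∃ f ∈ 𝒜 1, f ∉ x.asHomogeneousIdeal.toIdeal := fun x => by
    by_contra! hc
    exact x.not_irrelevant_le (hs.trans (Ideal.span_le.mpr fun f hf => hc f (hs1 f hf)))
  have hinv : PicF.IsInvertible (Twist.twist 𝒜 (d : ℤ)) := isInvertible_twist hcovA _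
  have key : ∀ (f : A) (hf : f ∈ s), resM _ (le_top : i ⁻¹ᵁ Proj.basicOpen 𝒜 f ≤ ⊤) (PicLib.pullSec i (formSec 𝒜 F)) = 0 ↔
      Away.mk 𝒜 (hs1 f hf) d F.1 (by simp) ∈ chartIdeal 𝒜 i.ker one_pos (hs1 f hf) := fun f hf => by
    have hpow : f ^ d ∈ 𝒜 d := by simpa using SetLike.pow_mem_graded d (hs1 f hf)
    have hne : Proj.basicOpen 𝒜 f ≤ Proj.basicOpen 𝒜 (f ^ d) := pow_basicOpen f d
    have hone : Proj.basicOpen 𝒜 f ≤ Proj.basicOpen 𝒜 ((1 : A)) := by rw [Proj.basicOpen_one]; exact le_top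
    let g : Γ(Twist.twist 𝒜 (d : ℤ), Proj.basicOpen 𝒜 f) :=
      fracSec (d : ℤ) _ ⟨f ^ d, hpow⟩ ⟨1, SetLike.GradedOne.one_mem⟩ (fun x => hone x.2) (by simp)
    have hg : IsGen (Twist.twist 𝒜 (d : ℤ)) (Proj.basicOpen 𝒜 f) g :=
      isGen_fracSec _ ⟨f ^ d, hpow⟩ ⟨1, SetLike.GradedOne.one_mem⟩ hne hone (by simp)
    let r : Γ(Proj 𝒜, Proj.basicOpen 𝒜 f) := (Proj.awayToSection 𝒜 f).hom (Away.mk 𝒜 (hs1 f hf) d F.1 (by simp))
    have hF : resM _ (le_top : Proj.basicOpen 𝒜 f ≤ ⊤) (formSec 𝒜 F) = r • g := by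
      refine sectN_ext fun x => ?_
      refine Eq.trans ?_ (oSmul_val (show Twist.O (𝒜 := 𝒜) (op _) from r) g x).symm
      show Localization.mk F.1 _ = _
      rw [show ((show Twist.O (𝒜 := 𝒜) (op (Proj.basicOpen 𝒜 f)) from r).1 x).val =
          Localization.mk F.1 ⟨f ^ d, hne x.2⟩ by
        refine (ProjectiveSpectrum.Proj.awayToSection_apply 𝒜 f _ x).trans ?_
        rw [Away.val_mk, Localization.mk_eq_mk', IsLocalization.map_mk', Localization.mk_eq_mk']
        rfl]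
      show _ = _ * Localization.mk _ _
      rw [Localization.mk_mul]
      exact (Localization.mk_eq_mk_iff.2 (Localization.r_iff_exists.2 ⟨1, by
        simp only [Submonoid.coe_mul, Submonoid.coe_one]; ring⟩)).symm
    have hgen := isGen_pullSec i hg hinv
    rw [show resM _ (le_top : i ⁻¹ᵁ Proj.basicOpen 𝒜 f ≤ ⊤) (PicLib.pullSec i (formSec 𝒜 F)) =
      i.app _ r • PicLib.pullSec i g from (resM_pullSec i le_top _).trans (by rw [hF, pullSec_smul])]
    have hmem : Away.mk 𝒜 (hs1 f hf) d F.1 (by simp) ∈ chartIdeal 𝒜 i.ker one_pos (hs1 f hf) ↔ i.app _ r = 0 := by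
      rw [chartIdeal, Ideal.mem_comap, Scheme.Hom.ker_apply]
      rfl
    rw [hmem]
    refine ⟨fun h => (hgen _ le_rfl).1 ?_, fun h => by rw [h, zero_smul]⟩
    show i.app _ r • resM _ _ _ = (0 : Γ(Z, _)) • resM _ _ _
    rw [resM_self, h, zero_smul]
  refine ⟨fun h f hf => (key f hf).1 ((congrArg _ h).trans (map_zero _)), fun h => sec_ext _ _ _ fun z _ => ?_⟩
  obtain ⟨f, hf, hfz⟩ : ∃ f ∈ s, i z ∈ Proj.basicOpen 𝒜 f := by
    by_contra! hc
    exact (show ProjectiveSpectrum 𝒜 from i z).not_irrelevant_le (hs.trans (Ideal.span_le.mpr fun f hf => by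
      by_contra hfx
      exact hc f hf hfx))
  exact ⟨i ⁻¹ᵁ Proj.basicOpen 𝒜 f, le_top, hfz, ((key f hf).2 (h f hf)).trans (map_zero _).symm⟩

include hs1 in
/-- If the kernel of `φ` consists of the forms vanishing on `Z`, then `Z ≅ Proj ℬ`. -/
theorem exists_iso_proj (hs : (HomogeneousIdeal.irrelevant 𝒜).toIdeal ≤ Ideal.span (s : Set A))
    {Z : Scheme.{u}} (i : Z ⟶ Proj 𝒜) [IsClosedImmersion i]
    {B : Type u} [CommRing B] [Algebra R B] {ℬ : ℕ → Submodule R B} [GradedAlgebra ℬ]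
    (φ : 𝒜 →+*ᵍ ℬ) (hφs : Function.Surjective φ)
    (hker : ∀ (d : ℕ) (F : 𝒜 d), φ F.1 = 0 ↔ PicLib.pullSec i (formSec 𝒜 F) = 0)
    (hφ : HomogeneousIdeal.irrelevant ℬ ≤ (HomogeneousIdeal.irrelevant 𝒜).map φ) :
    ∃ e : Z ≅ Proj ℬ, e.hom ≫ Proj.map φ hφ = i := by
  classical
  have hcl : IsClosedImmersion (Proj.map φ hφ) :=
    map_isClosedImmersion φ hφ fun n _ b hb => exists_preimage_homogeneous φ hφs n hb
  have hJ : ∀ {n : ℕ} {a : A}, a ∈ 𝒜 n → (φ a = 0 ↔ a ∈ subschemeIdeal 𝒜 hs1 i.ker) := fun {n a} ha => by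
    rw [mem_subschemeIdeal_iff 𝒜 hs1 i.ker ha]
    exact (hker n ⟨a, ha⟩).trans (pullSec_eq_zero_iff 𝒜 hs1 hs i ⟨a, ha⟩)
  have hk : (Proj.map φ hφ).ker = i.ker := by
    refine Scheme.IdealSheafData.ext_of_iSup_eq_top
      (fun f : s => affineBasic 𝒜 one_pos (hs1 f f.2)) ?_ fun f => ?_
    · exact Proj.iSup_basicOpen_eq_top 𝒜 (fun f : s => (f : A))
        (by rw [Subtype.range_coe_subtype]; exact hs)
    · apply Ideal.comap_injective_of_surjective (Proj.awayToSection 𝒜 (f : A)).hom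
        (awayToSection_bijective 𝒜 one_pos (hs1 f f.2)).2
      change chartIdeal 𝒜 (Proj.map φ hφ).ker one_pos (hs1 f f.2) =
        chartIdeal 𝒜 i.ker one_pos (hs1 f f.2)
      rw [chartIdeal_ker_map 𝒜 φ hφ one_pos (hs1 f f.2)]
      ext x
      obtain ⟨n, a, ha, rfl⟩ := Away.mk_surjective 𝒜 (hs1 f f.2) x
      have han : a ∈ 𝒜 n := by simpa using ha
      rw [RingHom.mem_ker, Away.map_mk φ (f : A) (hs1 f f.2), away_mk_eq_zero_iff]
      constructor
      · rintro ⟨k, hk⟩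
        have hd : (f : A) ^ k * a ∈ 𝒜 (k + n) := by
          simpa using SetLike.mul_mem_graded (SetLike.pow_mem_graded k (hs1 f f.2)) han
        have hmem : (f : A) ^ k * a ∈ subschemeIdeal 𝒜 hs1 i.ker :=
          (hJ hd).1 (by rw [map_mul, map_pow]; exact hk)
        have h1 := (mem_subschemeIdeal_iff 𝒜 hs1 i.ker hd).mp hmem f f.2
        convert h1 using 1
        apply val_injective
        rw [Away.val_mk, Away.val_mk, Localization.mk_eq_mk_iff, Localization.r_iff_exists]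
        exact ⟨1, by simp [pow_add]; ring⟩
      · intro h
        obtain ⟨M, hM⟩ := exists_pow_mul_mem_subschemeIdeal 𝒜 hs1 i.ker han f.2 h
        refine ⟨M, ?_⟩
        have := (hJ (n := M + n) (by
          simpa using SetLike.mul_mem_graded (SetLike.pow_mem_graded M (hs1 f f.2)) han)).2 hM
        rwa [map_mul, map_pow] at this
  have := IsClosedImmersion.isIso_lift (Proj.map φ hφ) i hk
  exact ⟨asIso (IsClosedImmersion.lift (Proj.map φ hφ) i hk.le), IsClosedImmersion.lift_fac _ _ _⟩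

end Groth.Agent.H8Constr
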